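/-
Block monomial automorphisms of (Fin k → V) × (Fin r → F), and the normal elementary abelian
subgroups of their 2-subgroups containing the base.
-/
import Mathlib
import Cfsg.Prelude.Def_Transfer

set_option autoImplicit false

namespace Cfsg.Agent.GLWreathTwo

variable {F : Type*} [Field F] {V : Type*} [AddCommGroup V] [Module F V] {k r : ℕ}

/-- The block monomial automorphism. -/
def gl (d : Fin k → V ≃ₗ[F] V) (u : Fin r → Fˣ) (σ : Equiv.Perm (Fin k)) :
    ((Fin k → V) × (Fin r → F)) ≃ₗ[F] ((Fin k → V) × (Fin r → F)) :=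
  ((LinearEquiv.funCongrLeft F V σ⁻¹).trans (LinearEquiv.piCongrRight d)).prodCongr
    (LinearEquiv.piCongrRight fun j => LinearEquiv.smulOfUnit (u j))

theorem gl_apply (d : Fin k → V ≃ₗ[F] V) (u : Fin r → Fˣ) (σ : Equiv.Perm (Fin k))
    (x : (Fin k → V) × (Fin r → F)) :
    gl d u σ x = (fun i => d i (x.1 (σ⁻¹ i)), fun j => (u j : F) * x.2 j) := rfl

theorem gl_mul (d e : Fin k → V ≃ₗ[F] V) (u w : Fin r → Fˣ) (σ τ : Equiv.Perm (Fin k)) :
    gl d u σ * gl e w τ = gl (fun i => d i * e (σ⁻¹ i)) (u * w) (σ * τ) := by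
  refine LinearEquiv.ext fun x => ?_
  rw [LinearEquiv.mul_apply]
  refine Prod.ext (funext fun i => ?_) (funext fun j => ?_)
  · simp [gl_apply, mul_inv_rev, Equiv.Perm.mul_apply, LinearEquiv.mul_apply]
  · simp [gl_apply, mul_assoc]

theorem gl_one : gl (F := F) (V := V) (k := k) (r := r) 1 1 1 = 1 := by
  refine LinearEquiv.ext fun x => ?_
  refine Prod.ext (funext fun i => ?_) (funext fun j => ?_) <;> simp [gl_apply]

theorem gl_inv (d : Fin k → V ≃ₗ[F] V) (u : Fin r → Fˣ) (σ : Equiv.Perm (Fin k)) :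
    (gl d u σ)⁻¹ = gl (fun i => (d (σ i))⁻¹) u⁻¹ σ⁻¹ := by
  refine inv_eq_of_mul_eq_one_right ?_
  rw [gl_mul, ← gl_one]
  congr 1
  · funext i; simp
  · simp
  · simp

theorem gl_inj [Nontrivial V] {d e : Fin k → V ≃ₗ[F] V} {u w : Fin r → Fˣ}
    {σ τ : Equiv.Perm (Fin k)} (h : gl d u σ = gl e w τ) : d = e ∧ u = w ∧ σ = τ := by
  classical
  obtain ⟨v, hv⟩ := exists_ne (0 : V)
  have hst : σ = τ := by
    refine Equiv.ext fun j => ?_
    by_contra hne
    have h1 := congrFun (congrArg (fun g => (g (Pi.single j v, (0 : Fin r → F))).1) h) (σ j)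
    have h2 : τ⁻¹ (σ j) ≠ j := fun hh => hne (by rw [Equiv.Perm.inv_eq_iff_eq] at hh; exact hh)
    simp only [gl_apply, Equiv.Perm.inv_def, Equiv.symm_apply_apply, Pi.single_eq_same] at h1
    rw [Pi.single_eq_of_ne (by simpa [Equiv.Perm.inv_def] using h2), map_zero] at h1
    exact hv ((d (σ j)).map_eq_zero_iff.1 h1)
  subst hst
  refine ⟨funext fun i => LinearEquiv.ext fun x => ?_, funext fun j => Units.ext ?_, rfl⟩
  · have h1 := congrFun (congrArg (fun g => (g ((fun _ => x), (0 : Fin r → F))).1) h) i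
    simpa [gl_apply] using h1
  · have h1 := congrFun (congrArg (fun g => (g ((0 : Fin k → V), (1 : Fin r → F))).2) h) j
    simpa [gl_apply] using h1

/-- The wreath subgroup. -/
def wr (P : Subgroup (V ≃ₗ[F] V)) (U : Subgroup Fˣ) (k r : ℕ) :
    Subgroup (((Fin k → V) × (Fin r → F)) ≃ₗ[F] ((Fin k → V) × (Fin r → F))) where
  carrier := {g | ∃ d u σ, (∀ i, d i ∈ P) ∧ (∀ j, u j ∈ U) ∧ g = gl d u σ}
  one_mem' := ⟨1, 1, 1, fun _ => P.one_mem, fun _ => U.one_mem, gl_one.symm⟩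
  mul_mem' := by
    rintro _ _ ⟨d, u, σ, hd, hu, rfl⟩ ⟨e, w, τ, he, hw, rfl⟩
    exact ⟨_, _, _, fun i => P.mul_mem (hd i) (he _), fun j => U.mul_mem (hu j) (hw j), gl_mul d e u w σ τ⟩
  inv_mem' := by
    rintro _ ⟨d, u, σ, hd, hu, rfl⟩
    exact ⟨_, _, _, fun i => P.inv_mem (hd _), fun j => U.inv_mem (hu j), gl_inv d u σ⟩

/-- The base group homomorphism. -/
def baseHom (P : Subgroup (V ≃ₗ[F] V)) (U : Subgroup Fˣ) (k r : ℕ) :
    ((Fin k → P) × (Fin r → U)) →* (((Fin k → V) × (Fin r → F)) ≃ₗ[F] ((Fin k → V) × (Fin r → F))) :=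
  MonoidHom.mk' (fun x => gl (fun i => (x.1 i : V ≃ₗ[F] V)) (fun j => (x.2 j : Fˣ)) 1) fun a b => by
    rw [gl_mul]
    congr 1

theorem mem_base {P : Subgroup (V ≃ₗ[F] V)} {U : Subgroup Fˣ} {d : Fin k → V ≃ₗ[F] V}
    {u : Fin r → Fˣ} (hd : ∀ i, d i ∈ P) (hu : ∀ j, u j ∈ U) :
    gl d u 1 ∈ (baseHom P U k r).range :=
  ⟨(fun i => ⟨d i, hd i⟩, fun j => ⟨u j, hu j⟩), rfl⟩

theorem baseHom_le (P : Subgroup (V ≃ₗ[F] V)) (U : Subgroup Fˣ) (k r : ℕ) :
    (baseHom P U k r).range ≤ wr P U k r := by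
  rintro _ ⟨x, rfl⟩
  exact ⟨_, _, 1, fun i => (x.1 i).2, fun j => (x.2 j).2, rfl⟩

theorem base_normal (P : Subgroup (V ≃ₗ[F] V)) (U : Subgroup Fˣ) (k r : ℕ) :
    ((baseHom P U k r).range.subgroupOf (wr P U k r)).Normal := by
  refine ⟨?_⟩
  rintro ⟨_, _⟩ ⟨x, hx⟩ ⟨_, d, u, σ, hd, hu, rfl⟩
  simp only [Subgroup.coe_subtype] at hx
  subst hx
  rw [Subgroup.mem_subgroupOf]
  simp only [Subgroup.coe_mul, Subgroup.coe_inv, gl_inv]
  show gl d u σ * gl _ _ 1 * gl _ _ _ ∈ _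
  rw [gl_mul, gl_mul]
  simp only [mul_one, mul_inv_cancel]
  exact mem_base (fun i => P.mul_mem (P.mul_mem (hd _) (x.1 _).2) (P.inv_mem (hd _)))
    (fun j => U.mul_mem (U.mul_mem (hu j) (x.2 j).2) (U.inv_mem (hu j)))

variable (F V) in
/-- The signs as scalar automorphisms. -/
def sV : ℤˣ →* (V ≃ₗ[F] V) :=
  MonoidHom.mk' (fun z => LinearEquiv.smulOfUnit (Units.map (Int.castRingHom F : ℤ →* F) z)) fun a b =>
    LinearEquiv.ext fun x => by
      show ((Units.map (Int.castRingHom F : ℤ →* F) (a * b)) : F) • x =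
        ((Units.map (Int.castRingHom F : ℤ →* F) a) : F) • ((Units.map (Int.castRingHom F : ℤ →* F) b) : F) • x
      rw [smul_smul, map_mul]; rfl

variable (F) in
/-- The signs as units. -/
def sU : ℤˣ →* Fˣ := Units.map (Int.castRingHom F : ℤ →* F)

theorem sV_apply (z : ℤˣ) (x : V) : sV F V z x = ((z : ℤ) : F) • x := rfl

theorem sU_val (z : ℤˣ) : (sU F z : F) = ((z : ℤ) : F) := rfl

theorem sV_comm (z : ℤˣ) (g : V ≃ₗ[F] V) : g * sV F V z = sV F V z * g := by
  refine LinearEquiv.ext fun x => ?_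
  simp [LinearEquiv.mul_apply, sV_apply]

theorem sgn_cast_inj (h2 : (2 : F) ≠ 0) {a b : ℤˣ} (h : ((a : ℤ) : F) = ((b : ℤ) : F)) : a = b := by
  rcases Int.units_eq_one_or a with e | e <;> rcases Int.units_eq_one_or b with e' | e' <;>
    simp [e, e'] at h ⊢ <;>
    first | exact absurd (by linear_combination h) h2 | exact absurd (by linear_combination -h) h2

theorem sU_inj (h2 : (2 : F) ≠ 0) : Function.Injective (sU F) :=
  fun _ _ h => sgn_cast_inj h2 (congrArg Units.val h)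

theorem sV_inj [Nontrivial V] (h2 : (2 : F) ≠ 0) : Function.Injective (sV F V) := by
  intro a b h
  obtain ⟨v, hv⟩ := exists_ne (0 : V)
  have h' := congrArg (fun g : V ≃ₗ[F] V => g v) h
  simp only [sV_apply] at h'
  exact sgn_cast_inj h2 (smul_left_injective F hv h')

/-- The sign changes of the blocks. -/
def sgnHom : ((Fin k → ℤˣ) × (Fin r → ℤˣ)) →*
    (((Fin k → V) × (Fin r → F)) ≃ₗ[F] ((Fin k → V) × (Fin r → F))) :=
  MonoidHom.mk' (fun x => gl (fun i => sV F V (x.1 i)) (fun j => sU F (x.2 j)) 1) fun a b => by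
    rw [gl_mul]
    congr 1
    · funext i; simp
    · funext j; simp

theorem sgnHom_injective [Nontrivial V] (h2 : (2 : F) ≠ 0) :
    Function.Injective (sgnHom (F := F) (V := V) (k := k) (r := r)) := by
  intro a b h
  obtain ⟨h1, h2', -⟩ := gl_inj (show gl _ _ _ = gl _ _ _ from h)
  exact Prod.ext (funext fun i => sV_inj h2 (congrFun h1 i)) (funext fun j => sU_inj h2 (congrFun h2' j))

theorem sgn_conj {d : Fin k → V ≃ₗ[F] V} {u : Fin r → Fˣ} {σ : Equiv.Perm (Fin k)}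
    (x : (Fin k → ℤˣ) × (Fin r → ℤˣ)) :
    gl d u σ * sgnHom x * (gl d u σ)⁻¹ = sgnHom (fun i => x.1 (σ⁻¹ i), x.2) := by
  rw [mul_inv_eq_iff_eq_mul]
  show gl d u σ * gl _ _ 1 = gl _ _ 1 * gl d u σ
  rw [gl_mul, gl_mul]
  congr 1
  · funext i; simp [sV_comm]
  · funext j; simp [mul_comm]

/-- The normal elementary abelian subgroups of a 2-subgroup between the base and the wreath subgroup. -/
theorem normal_elementary [Finite F] [Finite V] [Nontrivial V] (h2 : (2 : F) ≠ 0)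
    (P : Subgroup (V ≃ₗ[F] V)) (U : Subgroup Fˣ) (hneg : ∀ z, sV F V z ∈ P) (hnegU : ∀ z, sU F z ∈ U)
    (hnorm : ∀ A : Subgroup P, A.Normal → (∀ a ∈ A, a ^ 2 = 1) → ∀ a ∈ A, (a : V ≃ₗ[F] V) ∈ (sV F V).range)
    (hbig : ∃ p ∈ P, p ∉ (sV F V).range)
    (T : Subgroup (((Fin k → V) × (Fin r → F)) ≃ₗ[F] ((Fin k → V) × (Fin r → F))))
    (hT : T ≤ wr P U k r) (hbase : (baseHom P U k r).range ≤ T) :
    (∃ E : Subgroup ↥T, E.Normal ∧ Cfsg.IsElementaryAbelian 2 E ∧ 2 ^ (k + r) ≤ Nat.card ↥E) ∧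
      ∀ E : Subgroup ↥T, E.Normal → Cfsg.IsElementaryAbelian 2 E → Nat.card ↥E ≤ 2 ^ (k + r) := by
  classical
  have hcard : Nat.card (sgnHom (F := F) (V := V) (k := k) (r := r)).range = 2 ^ (k + r) := by
    rw [← Nat.card_congr (MonoidHom.ofInjective (sgnHom_injective (k := k) (r := r) (V := V) h2)).toEquiv]
    simp [pow_add]
  have hZ : (sgnHom (F := F) (V := V) (k := k) (r := r)).range ≤ T := by
    rintro _ ⟨x, rfl⟩
    exact hbase (mem_base (fun i => hneg _) (fun j => hnegU _))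
  refine ⟨⟨(sgnHom (F := F) (V := V) (k := k) (r := r)).range.subgroupOf T, ?_, ⟨?_, ?_⟩, ?_⟩, ?_⟩
  · refine ⟨?_⟩
    rintro a ⟨x, hx⟩ g
    obtain ⟨d, u, σ, -, -, hg⟩ := hT g.2
    refine Subgroup.mem_subgroupOf.2 ⟨(fun i => x.1 (σ⁻¹ i), x.2), ?_⟩
    simp only [Subgroup.coe_subtype] at hx
    rw [Subgroup.coe_mul, Subgroup.coe_mul, Subgroup.coe_inv, ← hx, hg, sgn_conj]
  · refine ⟨⟨?_⟩⟩
    rintro ⟨a, x, hx⟩ ⟨b, y, hy⟩
    refine Subtype.ext (Subtype.ext ?_)
    simp only [Subgroup.coe_subtype] at hx hy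
    show (a : ((Fin k → V) × (Fin r → F)) ≃ₗ[F] ((Fin k → V) × (Fin r → F))) * b = b * a
    rw [← hx, ← hy, ← map_mul, ← map_mul, mul_comm]
  · rintro a ⟨x, hx⟩
    refine Subtype.ext ?_
    simp only [Subgroup.coe_subtype] at hx
    rw [SubgroupClass.coe_pow, ← hx, Subgroup.coe_one, ← map_pow, show x ^ 2 = 1 from Prod.ext (funext fun i => Int.units_sq _)
      (funext fun j => Int.units_sq _), map_one]
  · rw [Nat.card_congr (Subgroup.subgroupOfEquivOfLe hZ).toEquiv, hcard]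
  intro E hE hEA
  set E' := E.map T.subtype with hE'
  have hnormal : ∀ g ∈ T, ∀ e ∈ E', g * e * g⁻¹ ∈ E' := by
    rintro g hg _ ⟨e, he, rfl⟩
    exact ⟨_, hE.conj_mem e he ⟨g, hg⟩, rfl⟩
  have hsq : ∀ e ∈ E', e ^ 2 = 1 := by
    rintro _ ⟨e, he, rfl⟩
    rw [← map_pow, hEA.2 e he, map_one]
  have hwr : ∀ e ∈ E', e ∈ wr P U k r := by
    rintro _ ⟨e, -, rfl⟩
    exact hT e.2
  have base_single : ∀ i p, p ∈ P → gl (Pi.mulSingle i p : Fin k → V ≃ₗ[F] V) (1 : Fin r → Fˣ) 1 ∈ T := by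
    intro i p hp
    refine hbase (mem_base (fun l => ?_) fun _ => U.one_mem)
    by_cases hl : l = i
    · subst hl; simpa using hp
    · simp [Pi.mulSingle_eq_of_ne hl, P.one_mem]
  -- diagonal elements of E' consist of signs
  have diag : ∀ d u, gl d u 1 ∈ E' → ∀ i, d i ∈ (sV F V).range := by
    intro d u hdu i
    let A : Subgroup P :=
      { carrier := {p | ∃ d u, gl d u 1 ∈ E' ∧ d i = (p : V ≃ₗ[F] V)}
        one_mem' := ⟨1, 1, (by rw [gl_one]; exact E'.one_mem), rfl⟩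
        mul_mem' := by
          rintro a b ⟨d, u, hd, hda⟩ ⟨e, w, he, heb⟩
          refine ⟨fun l => d l * e l, u * w, ?_, by simp [hda, heb]⟩
          have := E'.mul_mem hd he
          rw [gl_mul] at this
          simpa using this
        inv_mem' := by
          rintro a ⟨d, u, hd, hda⟩
          refine ⟨fun l => (d l)⁻¹, u⁻¹, ?_, by simp [hda]⟩
          have := E'.inv_mem hd
          rw [gl_inv] at this
          simpa using this }
    have hAn : A.Normal := by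
      refine ⟨?_⟩
      rintro a ⟨d, u, hd, hda⟩ g
      refine ⟨fun l => (Pi.mulSingle i (g : V ≃ₗ[F] V) : Fin k → V ≃ₗ[F] V) l * d l *
        ((Pi.mulSingle i (g : V ≃ₗ[F] V) : Fin k → V ≃ₗ[F] V) l)⁻¹, u, ?_, by simp [hda]⟩
      have := hnormal _ (base_single i g g.2) _ hd
      rw [gl_mul, gl_inv, gl_mul] at this
      simp only [one_mul, inv_one, mul_one] at this
      exact this
    have hA2 : ∀ a ∈ A, a ^ 2 = 1 := by
      rintro a ⟨d, u, hd, hda⟩
      have h := hsq _ hd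
      rw [pow_two, gl_mul, ← gl_one] at h
      have h1 := congrFun (gl_inj h).1 i
      simp only [inv_one, Equiv.Perm.one_apply, Pi.one_apply, hda] at h1
      exact Subtype.ext (by rw [pow_two]; exact h1)
    obtain ⟨d', u', σ', hd', hu', he⟩ := hwr _ hdu
    obtain ⟨rfl, rfl, -⟩ := gl_inj he
    exact hnorm A hAn hA2 ⟨d i, hd' i⟩ ⟨d, u, hdu, rfl⟩
  have sub : E' ≤ (sgnHom (F := F) (V := V) (k := k) (r := r)).range := by
    intro e he
    obtain ⟨d, u, σ, hd, hu, rfl⟩ := hwr e he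
    have hσ : σ = 1 := by
      refine Equiv.ext fun j => ?_
      by_contra hne
      rw [Equiv.Perm.one_apply] at hne
      obtain ⟨p, hp, hpn⟩ := hbig
      set i := σ j with hi
      set b := gl (Pi.mulSingle i p : Fin k → V ≃ₗ[F] V) (1 : Fin r → Fˣ) 1 with hb
      have hc : gl d u σ * (b * (gl d u σ)⁻¹ * b⁻¹) ∈ E' :=
        E'.mul_mem he (hnormal b (base_single i p hp) _ (E'.inv_mem he))
      obtain ⟨dc, uc, σc, -, -, hc'⟩ := hwr _ hc
      rw [hc'] at hc
      have heq : gl dc uc σc * (b * gl d u σ) = gl d u σ * b := by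
        rw [← hc']; group
      rw [hb, gl_mul, gl_mul, gl_mul] at heq
      obtain ⟨hd1, -, hs1⟩ := gl_inj heq
      have hσc : σc = 1 := by simpa using hs1
      subst hσc
      have h1 := congrFun hd1 i
      have hji : σ⁻¹ i ≠ i := by
        rw [hi, Equiv.Perm.inv_def, Equiv.symm_apply_apply]; exact Ne.symm hne
      simp only [Pi.mulSingle_eq_of_ne hji, mul_one] at h1
      change dc i * ((Pi.mulSingle i p : Fin k → V ≃ₗ[F] V) i * d i) = d i at h1
      rw [Pi.mulSingle_eq_same, ← mul_assoc] at h1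
      have h2 : dc i * p = 1 := mul_eq_right.1 h1
      apply hpn
      rw [eq_inv_of_mul_eq_one_right h2]
      exact Subgroup.inv_mem _ (diag dc uc hc i)
    subst hσ
    choose z hz using diag d u he
    have hu2 : ∀ j, ∃ w : ℤˣ, sU F w = u j := by
      intro j
      have h := hsq _ he
      rw [pow_two, gl_mul, ← gl_one] at h
      have h1 := congrArg Units.val (congrFun (gl_inj h).2.1 j)
      simp only [Pi.mul_apply, Units.val_mul, Pi.one_apply, Units.val_one] at h1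
      rcases mul_self_eq_one_iff.1 h1 with e | e
      · exact ⟨1, Units.ext (by simp [sU_val, e])⟩
      · exact ⟨-1, Units.ext (by simp [sU_val, e])⟩
    choose w hw using hu2
    refine ⟨(z, w), ?_⟩
    show gl _ _ 1 = _
    rw [funext hz, funext hw]
  calc Nat.card E = Nat.card E' := (Subgroup.card_map_of_injective T.subtype_injective).symm
    _ ≤ Nat.card (sgnHom (F := F) (V := V) (k := k) (r := r)).range :=
      Nat.le_of_dvd Nat.card_pos (Subgroup.card_dvd_of_le sub)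
    _ = 2 ^ (k + r) := hcard

end Cfsg.Agent.GLWreathTwo
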