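/-
Sylow 2-subgroups of GL_n over a finite field of odd order as block monomial groups.
-/
import Cfsg.Agent.Lib.LinearBlock.GLWreathTwo.Basic

set_option autoImplicit false

namespace Cfsg.Agent.GLWreathTwo

/-- The normal 2-rank is N. -/
def NormalTwoRank (X : Type*) [Group X] (N : ℕ) : Prop :=
  (∃ E : Subgroup X, E.Normal ∧ Cfsg.IsElementaryAbelian 2 E ∧ 2 ^ N ≤ Nat.card ↥E) ∧
    ∀ E : Subgroup X, E.Normal → Cfsg.IsElementaryAbelian 2 E → Nat.card ↥E ≤ 2 ^ N

theorem elementary_map {X Y : Type*} [Group X] [Group Y] (f : X ≃* Y) {E : Subgroup X}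
    (h : Cfsg.IsElementaryAbelian 2 E) : Cfsg.IsElementaryAbelian 2 (E.map f.toMonoidHom) := by
  refine ⟨⟨⟨?_⟩⟩, ?_⟩
  · rintro ⟨_, a, ha, rfl⟩ ⟨_, b, hb, rfl⟩
    refine Subtype.ext ?_
    show f a * f b = f b * f a
    have := h.1
    have hc : (⟨a, ha⟩ : E) * ⟨b, hb⟩ = ⟨b, hb⟩ * ⟨a, ha⟩ := mul_comm' _ _
    rw [← map_mul, ← map_mul]
    exact congrArg f (congrArg Subtype.val hc)
  · rintro _ ⟨a, ha, rfl⟩
    show f a ^ 2 = 1
    rw [← map_pow, h.2 a ha, map_one]

theorem NormalTwoRank.of_equiv {X Y : Type*} [Group X] [Group Y] (f : X ≃* Y) {N : ℕ}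
    (h : NormalTwoRank X N) : NormalTwoRank Y N := by
  obtain ⟨⟨E, hn, he, hc⟩, hu⟩ := h
  refine ⟨⟨E.map f.toMonoidHom, hn.map _ f.surjective, elementary_map f he, ?_⟩, fun A hA hA' => ?_⟩
  · rwa [Subgroup.card_map_of_injective f.injective]
  · have := hu (A.map f.symm.toMonoidHom) (hA.map _ f.symm.surjective) (elementary_map f.symm hA')
    rwa [Subgroup.card_map_of_injective f.symm.injective] at this

variable {F : Type*} [Field F] {V : Type*} [AddCommGroup V] [Module F V] {k r : ℕ}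

theorem card_wr [Nontrivial V] (P : Subgroup (V ≃ₗ[F] V)) (U : Subgroup Fˣ) :
    Nat.card (wr P U k r) = Nat.card P ^ k * Nat.card U ^ r * k.factorial := by
  let f : ((Fin k → P) × (Fin r → U)) × Equiv.Perm (Fin k) → wr P U k r := fun x =>
    ⟨gl (fun i => (x.1.1 i : V ≃ₗ[F] V)) (fun j => (x.1.2 j : Fˣ)) x.2,
      _, _, _, fun i => (x.1.1 i).2, fun j => (x.1.2 j).2, rfl⟩
  have hf : Function.Bijective f := by
    refine ⟨fun a b h => ?_, ?_⟩
    · obtain ⟨h1, h2, h3⟩ := gl_inj (congrArg Subtype.val h)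
      exact Prod.ext (Prod.ext (funext fun i => Subtype.ext (congrFun h1 i))
        (funext fun j => Subtype.ext (congrFun h2 j))) h3
    · rintro ⟨_, d, u, σ, hd, hu, rfl⟩
      exact ⟨((fun i => ⟨d i, hd i⟩, fun j => ⟨u j, hu j⟩), σ), rfl⟩
  rw [← Nat.card_eq_of_bijective f hf]
  simp [Nat.card_fun, Nat.card_prod, Fintype.card_perm]

/-- Conjugation of automorphism groups by a linear equivalence. -/
def autEquiv {M N : Type*} [AddCommGroup M] [Module F M] [AddCommGroup N] [Module F N]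
    (L : M ≃ₗ[F] N) : (M ≃ₗ[F] M) ≃* (N ≃ₗ[F] N) where
  toFun g := L.symm.trans (g.trans L)
  invFun g := L.trans (g.trans L.symm)
  left_inv g := LinearEquiv.ext fun x => by simp
  right_inv g := LinearEquiv.ext fun x => by simp
  map_mul' g h := LinearEquiv.ext fun x => by simp [LinearEquiv.mul_apply]

/-- The linear group as automorphisms of a space of the right dimension. -/
noncomputable def glAut {n : ℕ} {M : Type*} [AddCommGroup M] [Module F M] [Module.Finite F M]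
    (h : Module.finrank F M = n) : GL (Fin n) F ≃* (M ≃ₗ[F] M) :=
  (Matrix.GeneralLinearGroup.toLin.trans (LinearMap.GeneralLinearGroup.generalLinearEquiv F (Fin n → F))).trans
    (autEquiv (LinearEquiv.ofFinrankEq (Fin n → F) M (by rw [h]; simp)))

theorem card_range_sgn_le : Nat.card (sV F V).range ≤ 2 :=
  (Nat.le_of_dvd Nat.card_pos (Subgroup.card_range_dvd _)).trans (by simp)

theorem sylow_normal_two_rank [Finite F] [Module.Finite F V] [Nontrivial V] (h2 : (2 : F) ≠ 0)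
    (P : Sylow 2 (V ≃ₗ[F] V)) (U : Sylow 2 Fˣ)
    (hnorm : ∀ A : Subgroup (P : Subgroup (V ≃ₗ[F] V)), A.Normal → (∀ a ∈ A, a ^ 2 = 1) →
      ∀ a ∈ A, (a : V ≃ₗ[F] V) ∈ (sV F V).range)
    (hbig : 2 < Nat.card (P : Subgroup (V ≃ₗ[F] V))) {n : ℕ}
    (hn : Module.finrank F ((Fin k → V) × (Fin r → F)) = n)
    (hcount : padicValNat 2 (Nat.card (GL (Fin n) F)) =
      k * padicValNat 2 (Nat.card (V ≃ₗ[F] V)) + r * padicValNat 2 (Nat.card Fˣ) + padicValNat 2 k.factorial)
    (S : Sylow 2 (GL (Fin n) F)) :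
    NormalTwoRank ↥(S : Subgroup (GL (Fin n) F)) (k + r) := by
  classical
  haveI : Finite V := Module.finite_of_finite F
  haveI : Finite (((Fin k → V) × (Fin r → F)) ≃ₗ[F] ((Fin k → V) × (Fin r → F))) :=
    Finite.of_injective _ DFunLike.coe_injective
  haveI : Finite (V ≃ₗ[F] V) := Finite.of_injective _ DFunLike.coe_injective
  have hsg : IsPGroup 2 (sV F V).range := by
    rintro ⟨_, z, rfl⟩
    refine ⟨1, Subtype.ext ?_⟩
    show sV F V z ^ 2 ^ 1 = 1
    rw [pow_one, ← map_pow, Int.units_sq, map_one]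
  have hsU : IsPGroup 2 (sU F).range := by
    rintro ⟨_, z, rfl⟩
    refine ⟨1, Subtype.ext ?_⟩
    show sU F z ^ 2 ^ 1 = 1
    rw [pow_one, ← map_pow, Int.units_sq, map_one]
  haveI : ((sV F V).range).Normal := by
    refine ⟨?_⟩
    rintro _ ⟨z, rfl⟩ g
    exact ⟨z, by rw [sV_comm, mul_inv_cancel_right]⟩
  have hnegP : ∀ z, sV F V z ∈ (P : Subgroup (V ≃ₗ[F] V)) := fun z => by
    have hsup := hsg.to_sup_of_normal_left P.2
    exact P.3 hsup le_sup_right ▸ Subgroup.mem_sup_left (MonoidHom.mem_range.2 ⟨z, rfl⟩)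
  have hnegU : ∀ z, sU F z ∈ (U : Subgroup Fˣ) := fun z => by
    have hsup := hsU.to_sup_of_normal_left U.2
    exact U.3 hsup le_sup_right ▸ Subgroup.mem_sup_left (MonoidHom.mem_range.2 ⟨z, rfl⟩)
  have hbig' : ∃ p ∈ (P : Subgroup (V ≃ₗ[F] V)), p ∉ (sV F V).range := by
    by_contra hcon
    push Not at hcon
    have := (Subgroup.card_le_of_le hcon).trans card_range_sgn_le
    omega
  have hBp : IsPGroup 2 ((baseHom (P : Subgroup (V ≃ₗ[F] V)) (U : Subgroup Fˣ) k r).range.subgroupOf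
      (wr (P : Subgroup (V ≃ₗ[F] V)) (U : Subgroup Fˣ) k r)) := by
    obtain ⟨a, ha⟩ := IsPGroup.iff_card.1 P.2
    obtain ⟨b, hb⟩ := IsPGroup.iff_card.1 U.2
    have : IsPGroup 2 ((Fin k → (P : Subgroup (V ≃ₗ[F] V))) × (Fin r → (U : Subgroup Fˣ))) :=
      IsPGroup.of_card (n := a * k + b * r) (by
        rw [Nat.card_prod, Nat.card_fun, Nat.card_fun, Nat.card_fin, Nat.card_fin, ha, hb, pow_add,
          pow_mul, pow_mul])
    exact (this.of_surjective _ (MonoidHom.rangeRestrict_surjective _)).comap_subtype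
  obtain ⟨Q, hQ⟩ := hBp.exists_le_sylow
  let T : Subgroup (((Fin k → V) × (Fin r → F)) ≃ₗ[F] ((Fin k → V) × (Fin r → F))) :=
    (Q : Subgroup (wr (P : Subgroup (V ≃ₗ[F] V)) (U : Subgroup Fˣ) k r)).map (Subgroup.subtype _)
  have hTwr : T ≤ wr (P : Subgroup (V ≃ₗ[F] V)) (U : Subgroup Fˣ) k r := by
    rintro _ ⟨x, -, rfl⟩; exact x.2
  have hbase : (baseHom (P : Subgroup (V ≃ₗ[F] V)) (U : Subgroup Fˣ) k r).range ≤ T := fun x hx =>
    ⟨⟨x, baseHom_le _ _ k r hx⟩, hQ hx, rfl⟩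
  have key : NormalTwoRank ↥T (k + r) :=
    normal_elementary h2 _ _ hnegP hnegU hnorm hbig' T hTwr hbase
  let f : GL (Fin n) F ≃* (((Fin k → V) × (Fin r → F)) ≃ₗ[F] ((Fin k → V) × (Fin r → F))) := glAut hn
  let R : Subgroup (GL (Fin n) F) := T.map f.symm.toMonoidHom
  have hR : IsPGroup 2 R := (Q.2.map _).map _
  obtain ⟨T₀, hT₀⟩ := hR.exists_le_sylow
  have hsame : Nat.card R = Nat.card (T₀ : Subgroup (GL (Fin n) F)) := by
    rw [show Nat.card R = Nat.card T from Subgroup.card_map_of_injective f.symm.injective,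
      show Nat.card T = Nat.card Q from Subgroup.card_map_of_injective Subtype.val_injective,
      Sylow.card_eq_multiplicity, Sylow.card_eq_multiplicity,
      Nat.factorization_def _ Nat.prime_two, Nat.factorization_def _ Nat.prime_two, hcount]
    congr 1
    have hP1 : Nat.card (P : Subgroup (V ≃ₗ[F] V)) = 2 ^ padicValNat 2 (Nat.card (V ≃ₗ[F] V)) := by
      rw [P.card_eq_multiplicity, Nat.factorization_def _ Nat.prime_two]
    have hU1 : Nat.card (U : Subgroup Fˣ) = 2 ^ padicValNat 2 (Nat.card Fˣ) := by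
      rw [U.card_eq_multiplicity, Nat.factorization_def _ Nat.prime_two]
    rw [card_wr, hP1, hU1, ← pow_mul, ← pow_mul, ← pow_add,
      padicValNat.mul (pow_ne_zero _ two_ne_zero) k.factorial_ne_zero, padicValNat.prime_pow]
    ring
  have hRT : R = (T₀ : Subgroup (GL (Fin n) F)) := Subgroup.eq_of_le_of_card_ge hT₀ hsame.ge
  exact key.of_equiv (((Subgroup.equivMapOfInjective T _ f.symm.injective).trans
    (MulEquiv.subgroupCongr hRT)).trans (Sylow.equiv T₀ S))

end Cfsg.Agent.GLWreathTwo
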